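import Cfsg.Agent.HeU.Inst

/-! A simple group of order `|He|` with an involution centraliser of shape `2^{1+6}.L₃(2)` is the Held group (`isoHe`). -/

set_option autoImplicit false
set_option maxRecDepth 100000
set_option linter.unusedSectionVars false

namespace Cfsg.Agent.HeU

open Cfsg.Agent.Comp Cfsg.Agent.Spor Cfsg.Agent.BG HeR

variable {G : Type*} [Group G] [Finite G] {t : G}

theorem burn {x : G} {k : ℕ} (t2 : t * t = 1) (x2 : x * x = 1) (t1 : t ≠ 1) (x1 : x ≠ 1) (xt : x ≠ t) (c : Commute x t)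
    (hx : IsConj t x) (hx' : IsConj t (x * t)) (hk : {y : C1[t] | IsConj t y.1}.ncard = k) :
    4 ∣ Nat.card {y // IsConj t y} + 3 * k := by
  classical
  let W : Subgroup G :=
    { carrier := {1, t, x, x * t}
      one_mem' := .inl rfl
      mul_mem' := by
        have e1 : t * (x * t) = x := by rw [c.eq, ← mul_assoc, t2, one_mul]
        have e2 : x * (t * x) = t := by rw [← c.eq, ← mul_assoc, x2, one_mul]
        have e3 : x * (x * t) = t := by rw [← mul_assoc, x2, one_mul]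
        rintro _ _ (rfl | rfl | rfl | rfl) (rfl | rfl | rfl | rfl) <;> simp [mul_assoc, ← c.eq, *]
      inv_mem' := by
        rintro _ (rfl | rfl | rfl | rfl) <;>
          simp [inv_eq_of_mul_eq_one_right t2, inv_eq_of_mul_eq_one_right x2, ← c.eq] }
  have hW : Nat.card W = 4 := by
    have e1 : x * t ≠ 1 := fun e => xt (by rw [eq_inv_of_mul_eq_one_left e, inv_eq_of_mul_eq_one_right t2])
    show Nat.card ({1, t, x, x * t} : Set G) = 4
    rw [Nat.card_coe_set_eq, Set.ncard_insert_of_notMem (by simp [t1.symm, x1.symm, e1.symm]),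
      Set.ncard_insert_of_notMem (by simp [xt.symm, x1]), Set.ncard_pair (by simp [t1])]
  letI : MulAction W {y // IsConj t y} :=
    { smul := fun w y => ⟨w * y * w⁻¹, y.2.trans (isConj_iff.2 ⟨_, rfl⟩)⟩
      one_smul := fun y => Subtype.ext (show (1 : G) * y * 1⁻¹ = y by simp)
      mul_smul := fun a b y => Subtype.ext (show (a * b : G) * y * (a * b : G)⁻¹ = a * (b * y * (b : G)⁻¹) * (a : G)⁻¹ by group) }
  have := Fintype.ofFinite G
  have := Fintype.ofFinite (Quotient (MulAction.orbitRel W {y // IsConj t y}))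
  have h1 := MulAction.sum_card_fixedBy_eq_card_orbits_mul_card_group W {y // IsConj t y}
  have h2 : ∀ w ∈ Finset.univ.erase (1 : W), Fintype.card (MulAction.fixedBy {y // IsConj t y} w) = k := fun w hw => by
    obtain ⟨g, e⟩ : ∃ g, g * t * g⁻¹ = w := isConj_iff.1 (by
      obtain ⟨w, rfl | rfl | rfl | rfl⟩ := w
      exacts [absurd rfl (Finset.ne_of_mem_erase hw), IsConj.refl _, hx, hx'])
    rw [← hk, ← Nat.card_coe_set_eq, ← Nat.card_eq_fintype_card]
    refine Nat.card_congr ⟨fun y => ⟨⟨g⁻¹ * y.1 * g, Subgroup.mem_centralizer_singleton_iff.2 ?_⟩,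
      y.1.2.trans (isConj_iff.2 ⟨g⁻¹, by simp⟩)⟩, fun y => ⟨⟨g * y.1 * g⁻¹, y.2.trans (isConj_iff.2 ⟨g, rfl⟩)⟩, Subtype.ext ?_⟩,
      fun y => by simp [mul_assoc], fun y => by simp [mul_assoc]⟩
    · have h3 : w.1 * y.1.1 * w.1⁻¹ = y.1.1 := congrArg Subtype.val y.2
      have h4 := mul_inv_eq_iff_eq_mul.1 h3
      rw [← e] at h4
      calc _ = g⁻¹ * (y.1.1 * (g * t * g⁻¹)) * g := by group
        _ = _ := by rw [← h4]; group
    · show w.1 * (g * y.1.1 * g⁻¹) * w.1⁻¹ = g * y.1.1 * g⁻¹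
      rw [← e]
      calc _ = g * (t * y.1.1 * t⁻¹) * g⁻¹ := by group
        _ = _ := by rw [← Subgroup.mem_centralizer_singleton_iff.1 y.1.2, mul_inv_cancel_right]
  have h3 : Fintype.card (MulAction.fixedBy {y // IsConj t y} (1 : W)) = Nat.card {y // IsConj t y} := by
    rw [← Nat.card_eq_fintype_card, MulAction.fixedBy_one_eq_univ]; simp
  rw [← Finset.add_sum_erase _ _ (Finset.mem_univ 1), Finset.sum_congr rfl h2, Finset.sum_const, Finset.card_erase_of_mem
    (Finset.mem_univ _), Finset.card_univ, ← Nat.card_eq_fintype_card (α := W), hW, h3] at h1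
  exact ⟨_, by rw [mul_comm 4, ← h1]; simp⟩

theorem not_bad (ht : orderOf t = 2) (hn : ¬ IsIsolatedInvolution t) (hI : Nat.card {y // IsConj t y} % 4 = 1)
    (h : Bad (⟨t, Subgroup.mem_centralizer_singleton_iff.2 rfl⟩ : C1[t])) : False := by
  obtain ⟨Y, hY, tY, cY, h⟩ := h
  have t2 : t * t = 1 := Invol.mul_self_of ht
  have mc : ∀ {x : G}, x ∈ C1[t] ↔ Commute x t := Subgroup.mem_centralizer_singleton_iff
  have inv : ∀ {x : C1[t]}, IsConj t x.1 → x * x = 1 ∧ x ≠ 1 := fun hx =>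
    ⟨Subtype.ext (Invol.mul_self_of (Invol.orderOf_of_isConj hx ▸ ht)), fun e => Invol.ne_one_of (Invol.orderOf_of_isConj hx ▸ ht)
      (congrArg Subtype.val e)⟩
  have cv : ∀ {x y : C1[t]}, IsConj x y → IsConj x.1 y.1 := (Subgroup.subtype _).map_isConj
  have key : ∀ x : C1[t], IsConj t x.1 → x.1 ≠ t → x ∈ Y := fun x hx xt => by
    refine (h x (inv hx).1 (inv hx).2 fun e => xt (congrArg Subtype.val e)).2.resolve_right ?_
    rintro ⟨y, yx, hlt⟩
    have ty := hx.trans (cv yx).symm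
    have yt : y.1 ≠ t := fun e => by
      obtain ⟨c, rfl⟩ := isConj_iff.1 yx
      exact xt (by simp [e, (mc.1 c.2).eq])
    obtain ⟨g, e⟩ := isConj_iff.1 ty
    have h1 : g⁻¹ * t * g ∈ C1[t] := mc.2 (by simpa [← e, mul_assoc] using ((mc.1 y.2).symm.conj g⁻¹))
    have h2 : IsConj t (g⁻¹ * t * g) := isConj_iff.2 ⟨g⁻¹, by rw [inv_inv]⟩
    obtain ⟨c, e1⟩ := isConj_iff.1 (h ⟨_, h1⟩ (inv h2).1 (inv h2).2 fun e1 => yt (by
      have e2 : g⁻¹ * t * g = t := congrArg Subtype.val e1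
      rw [← e]; nth_rw 1 [← e2]; group)).1
    replace e1 : c * (g⁻¹ * t * g) * c.1⁻¹ = g⁻¹ * t * g * t := congrArg Subtype.val e1
    obtain ⟨q, e2⟩ := isConj_iff.1 (h y (inv ty).1 (inv ty).2 fun e => yt (congrArg Subtype.val e)).1
    have k1 : g * c * g⁻¹ * t * (g * c * g⁻¹)⁻¹ = y * t := by
      rw [(mc.1 y.2).eq, ← e]
      calc _ = g * (c * (g⁻¹ * t * g) * c.1⁻¹) * g⁻¹ := by group
        _ = _ := by rw [e1]; group
    have k2 : g * c * g⁻¹ * y * (g * c * g⁻¹)⁻¹ = y := by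
      rw [← e]
      calc _ = g * (c * t * c.1⁻¹) * g⁻¹ := by group
        _ = _ := by rw [(mc.1 c.2).eq, mul_inv_cancel_right]
    generalize g * c * g⁻¹ = k at k1 k2
    have k3 : k * (y * t) * k⁻¹ = t := by
      rw [← conj_mul, k1, k2, ← mul_assoc, ← Subgroup.coe_mul, (inv ty).1]; simp
    have n1 : {c : C1[t] | c * c = ⟨t, mc.2 rfl⟩ ∧ Commute c y}.ncard ≤ {c : C1[t] | c * c = y * ⟨t, mc.2 rfl⟩}.ncard := by
      rw [← Set.ncard_image_of_injective (f := fun c : C1[t] => k * c * k⁻¹) _ fun a b e => Subtype.ext (by simpa using e),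
        ← Set.ncard_image_of_injective _ Subtype.val_injective]
      refine Set.ncard_le_ncard ?_
      rintro _ ⟨c, ⟨c1, c2⟩, rfl⟩
      have c3 : Commute c.1 y.1 := congrArg Subtype.val c2
      refine ⟨⟨_, mc.2 (by nth_rw 2 [← k3]; exact (c3.mul_right (mc.1 c.2)).conj k)⟩, Subtype.ext ?_, rfl⟩
      show k * c * k⁻¹ * (k * c * k⁻¹) = y * t
      rw [conj_mul, ← Subgroup.coe_mul, c1, k1]
    have n2 : {c : C1[t] | c * c = y * ⟨t, mc.2 rfl⟩}.ncard ≤ {c : C1[t] | c * c = y}.ncard :=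
      Set.ncard_le_ncard_of_injOn (fun c => q⁻¹ * c * q) (fun c hc => by
        rw [Set.mem_ofPred_eq] at hc ⊢
        calc _ = q⁻¹ * (c * c) * q := by group
          _ = _ := by rw [hc, ← e2]; group) fun a _ b _ e => by simpa using e
    rw [Set.ofPred_or, Set.ncard_union_eq (Set.disjoint_left.2 fun c c1 c2 => Invol.ne_one_of ht (by
      simpa [Subtype.ext_iff] using c1.symm.trans c2))] at hlt
    omega
  obtain ⟨g, c, hg⟩ : ∃ g, Commute t (g * t * g⁻¹) ∧ g * t * g⁻¹ ≠ t := by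
    by_contra! H
    exact hn ⟨ht, H⟩
  have hx : IsConj t (⟨_, mc.2 c.symm⟩ : C1[t]).1 := isConj_iff.2 ⟨g, rfl⟩
  have := burn t2 (congrArg Subtype.val (inv hx).1) (Invol.ne_one_of ht) (fun e => (inv hx).2 (Subtype.ext e)) hg c.symm hx
    (hx.trans (cv (h _ (inv hx).1 (inv hx).2 fun e => hg (congrArg Subtype.val e)).1)) (k := 15) (by
      rw [show 15 = 14 + 1 from rfl, ← hY, ← Set.ncard_insert_of_notMem tY]
      congr 1; ext y
      refine ⟨fun hy => or_iff_not_imp_left.2 fun e => key y hy fun e1 => e (Subtype.ext e1), ?_⟩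
      rintro (rfl | hy)
      exacts [IsConj.refl _, hx.trans (cv (cY _ (key _ hx hg) y hy))])
  omega

theorem isoHe [IsSimpleGroup G] (ht : orderOf t = 2) (Q : Subgroup C1[t]) [Q.Normal] (hQ : IsExtraspecial 2 Q)
    (hcard : Nat.card Q = 2 ^ 7) (h2c : C[Q] ≤ Q) (e : C1[t] ⧸ Q ≃* SL3) (hG : Nat.card G = 4030387200) :
    Nonempty (G ≃* Cfsg.Spor.He) := by
  obtain ⟨hc, ⟨φ, hφ⟩ | h⟩ := good_or_bad Q hQ hcard h2c e (t := ⟨t, Subgroup.mem_centralizer_singleton_iff.2 rfl⟩)
    (Subgroup.mem_center_iff.2 fun x => Subtype.ext (Subgroup.mem_centralizer_singleton_iff.1 x.2))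
    fun e => Invol.ne_one_of ht (congrArg Subtype.val e)
  · have hz : (φ.symm (Cb.F z)).1 = t := by rw [φ.symm_apply_eq.2 (Subtype.ext hφ.symm)]
    have h : St fun n => (φ.symm (Cb.F n)).1 := ⟨fun a b => by rw [show Cb.F (mul _ _) = _ from Cb.fmul a b, map_mul]; rfl,
      fun a b e => Cb.inj a b (φ.symm.injective (Subtype.ext e)), fun g hg => by
        rw [hz] at hg
        obtain ⟨n, hn, e⟩ := st_toSL.surj _ (Subgroup.mem_centralizer_singleton_iff.1
          (φ ⟨g, Subgroup.mem_centralizer_singleton_iff.2 hg⟩).2)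
        exact ⟨n, hn, by rw [φ.symm_apply_eq.2 (Subtype.ext e.symm)]⟩⟩
    obtain ⟨f, k, p⟩ := h.pres' h.not_iso
    have h1 := p.card
    have h2 := p.1
    rw [hG] at h1
    interval_cases k
    exacts [absurd h1 (by decide), absurd h1 (by decide), p.he, absurd h1 (by decide)]
  · refine (not_bad ht (fun hi => ?_) ?_ h).elim
    · have hz := Block.zstar_center hi (SE.oddCore_simple (by rw [hG]; decide))
      have h1 : Subgroup.center G = ⊤ := (IsSimpleGroup.eq_bot_or_eq_top_of_normal _ inferInstance).resolve_left fun e =>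
        Invol.ne_one_of ht (by simpa [e] using hz)
      have h2 : C1[t] = ⊤ := eq_top_iff.2 fun x _ => Subgroup.mem_centralizer_singleton_iff.2 (Subgroup.mem_center_iff.1 hz x)
      rw [h2, Subgroup.card_top, hG] at hc
      omega
    · have := Invol.card_class_mul_card_centralizer t
      rw [hc, hG] at this
      omega

end Cfsg.Agent.HeU
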